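import Cfsg.Agent.H884.RowAllD
import Cfsg.Agent.H354.Fac.SmallA
import Cfsg.Agent.H354.Fac.RowL

/-!
# S3679: all the rows except the alternating one (helper462)

`noFac_named` : `NoFac T` for `T` with a name `g` which is not alternating; the hypotheses `h1`, `h2`, `h3` are the
rows `PSp_2m(q)`, `Ω_2m+1(q)`, `PΩ⁺_2m(q)`, `m ≥ 4` even.
-/

set_option autoImplicit false
set_option maxRecDepth 100000

namespace Cfsg.Agent.H462.Fc

open Subgroup Cfsg Cfsg.Agent.OrdDiv Cfsg.Agent.H436 Cfsg.Agent.H899.CG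
open Cfsg.Agent.H884.Row (KnownS nm_psl nm_psp nm_psu nm_oodd nm_oplus nm_ominus)

theorem congr {T T' : Type} [Group T] [Group T'] (e : T' ≃* T) (h : NoFac T) [Finite T] : NoFac T' :=
  fun _ _ _ hS hna _ _ _ _ hF => h.out e hS hna hF

/-- **`PSL_n(q)`, `n ≥ 4`** -/
theorem noFac_psl (tab : OrderTable.{0}) (hK : KnownS) {F : Type} [Field F] [Fintype F] {n : ℕ} (hn : 4 ≤ n) :
    NoFac (Matrix.ProjectiveSpecialLinearGroup (Fin n) F) := by
  have hN := nm_psl F (n := n) (by omega) (by omega)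
  by_cases h4 : Fintype.card F = 2 ∧ n = 4
  · obtain ⟨h2, rfl⟩ := h4
    rw [h2] at hN
    exact H354.Fac.noFac_20160 tab hK (hN.ord.trans (by decide +kernel))
  by_cases h6 : Fintype.card F = 2 ∧ n = 6
  · obtain ⟨h2, rfl⟩ := h6
    exact H354.Fac.noFac_psl62 tab hK F h2
  exact noFac_of_iGap fun M hM => H884.Row.row_psl tab hK hn h4 h6 hM

/-- **`PSU_n(q)`, `n ≥ 4`** -/
theorem noFac_psu (tab : OrderTable.{0}) (hK : KnownS) {F : Type} [Field F] [Fintype F] {n q : ℕ}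
    (hF : Fintype.card F = q ^ 2) (hn : 4 ≤ n) : NoFac (PSU n F q) := by
  have hN := nm_psu F hF (n := n) (by omega) (by omega)
  by_cases h2 : q = 2 ∧ n ≤ 6
  · obtain ⟨rfl, h6⟩ := h2
    interval_cases n
    · exact H354.Fac.noFac_25920 tab hK (hN.ord.trans (by decide +kernel))
    · exact H354.Fac.noFac_13685760 tab hK (hN.ord.trans (by decide +kernel))
    · exact H354.Fac.noFac_9196830720 tab hK (hN.ord.trans (by decide +kernel))
  by_cases h3 : n = 4 ∧ q = 3
  · obtain ⟨rfl, rfl⟩ := h3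
    exact H354.Fac.noFac_3265920 tab hK (hN.ord.trans (by decide +kernel))
  exact noFac_of_iGap fun M hM => H884.Row.row_psu' tab hK hF hn h2 h3 hM.1

/-- **`PSp_2m(q)`, `m ≥ 3` odd** -/
theorem noFac_psp (tab : OrderTable.{0}) (hK : KnownS) {F : Type} [Field F] [Fintype F] {m : ℕ}
    (hm : 3 ≤ m) (ho : Odd m) : NoFac (PSp m F) := by
  have hN := nm_psp F (n := m) (by omega) (by omega)
  by_cases h32 : m = 3 ∧ Fintype.card F = 2
  · obtain ⟨rfl, h2⟩ := h32
    rw [h2] at hN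
    exact H354.Fac.noFac_1451520 tab hK (hN.ord.trans (by decide +kernel))
  refine noFac_of_iGap fun M hM => ?_
  rcases H884.Row.row_psp tab hK hm h32 hM.1 with h | ⟨h, -⟩ | ⟨h, -⟩
  · exact h
  · exact absurd h (Nat.not_even_iff_odd.2 ho)
  · exact absurd h (Nat.not_even_iff_odd.2 ho)

/-- **`Ω_{2m+1}(q)`, `m ≥ 3` odd** -/
theorem noFac_oodd (tab : OrderTable.{0}) (hK : KnownS) {F : Type} [Field F] [Fintype F] {m : ℕ}
    (hodd : Odd (Fintype.card F)) (hm : 3 ≤ m) (ho : Odd m) : NoFac (POmega F (quadFormOdd m F)) := by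
  have hN := nm_oodd F (n := m) hm hodd
  by_cases h33 : m = 3 ∧ Fintype.card F = 3
  · obtain ⟨rfl, h3⟩ := h33
    rw [h3] at hN
    exact H354.Fac.noFac_4585351680 tab hK (hN.ord.trans (by decide +kernel))
  refine noFac_of_iGap fun M hM => ?_
  rcases H884.Row.row_oodd tab hK hm hodd h33 hM.1 with h | ⟨h, -⟩ | ⟨h, -⟩
  · exact h
  · exact absurd h (Nat.not_even_iff_odd.2 ho)
  · exact absurd h (Nat.not_even_iff_odd.2 ho)

/-- **`PΩ⁺_{2m}(q)`, `m ≥ 5` odd** -/
theorem noFac_oplus (tab : OrderTable.{0}) (hK : KnownS) {F : Type} [Field F] [Fintype F] {m : ℕ}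
    (hm : 5 ≤ m) (ho : Odd m) : NoFac (POmega F (quadFormPlus m F)) := by
  refine noFac_of_iGap fun M hM => ?_
  rcases H884.Row.row_oplus tab hK hm hM.1 with h | ⟨h, -⟩ | ⟨h, -⟩
  · exact h
  · exact absurd h (Nat.not_even_iff_odd.2 ho)
  · exact absurd h (Nat.not_even_iff_odd.2 ho)

/-- **`PΩ⁻_{2m}(q)`, `m ≥ 4`** -/
theorem noFac_ominus (tab : OrderTable.{0}) (hK : KnownS) {F : Type} [Field F] [Fintype F] {m : ℕ} (hm : 4 ≤ m)
    {a b : F} (hab : ∀ z₁ z₂ : F, z₁ ^ 2 + a * z₁ * z₂ + b * z₂ ^ 2 = 0 → z₁ = 0 ∧ z₂ = 0) :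
    NoFac (POmega F (quadFormMinus (m - 1) F a b)) :=
  noFac_of_iGap fun _ hM => H884.Row.row_ominus tab hK hm hab hM.1

/-- **`G₂(3)`** -/
theorem noFac_4245696 (tab : OrderTable.{0}) (hK : KnownS) {T : Type} [Group T] (hn : Nat.card T = 4245696) :
    NoFac T :=
  H354.Fac.noFac_of_half tab hK (m := 216) (d := 91) (l := [(2, 3), (3, 3)]) hn (by norm_num)
    (by norm_num) (by decide +kernel) (by decide +kernel) (by decide +kernel)

/-- **`G₂(4)`**: `S` has order 60 -/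
theorem card_S_of_g24 (tab : OrderTable.{0}) (hK : KnownS) {T : Type} [Group T] [Finite T]
    (hn : Nat.card T = 251596800) {S : Type} [Group S] [Finite S] (hS : IsSimpleGroup S)
    (hna : ¬ IsMulCommutative S) {A M : Subgroup T} {l : ℕ} (h : Fac T A M S l) : l = 2 ∧ Nat.card S = 60 := by
  have h1 := h.pow_dvd_card
  rw [hn] at h1
  have h2 : Nat.card S ∣ 960 := by
    refine H354.Fac.dvd_of_sq_dvd (d := 273) (by norm_num) (by decide +kernel) ?_
    exact (pow_dvd_pow _ h.two_le).trans (by simpa using h1)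
  obtain ⟨g, hg, -, h3⟩ := exists_good tab (hK S) (fun h => hna ⟨⟨h⟩⟩)
    (l := [(2, 6), (3, 1), (5, 1)]) (by decide +kernel) h2
  have h4 : ∀ g ∈ cands [(2, 6), (3, 1), (5, 1)] 960, ordN g = 60 := by
    decide +kernel
  have h5 : Nat.card S = 60 := by rw [h3, h4 g hg]
  refine ⟨?_, h5⟩
  by_contra hl
  have h6 : 3 ≤ l := by have := h.two_le; omega
  rw [h5] at h1
  have h7 : 60 ^ 3 ∣ 251596800 := (pow_dvd_pow _ h6).trans h1
  revert h7
  norm_num

theorem noFac_g24 (tab : OrderTable.{0}) (hK : KnownS) {T : Type} [Group T] [Finite T]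
    (hn : Nat.card T = 251596800) (hM : ∀ M : Subgroup T, IsCoatom M → IGap T M ∨ Nat.card M = 1092) : NoFac T := by
  intro S _ _ hS hna A M l hMc h
  obtain ⟨rfl, h5⟩ := card_S_of_g24 tab hK hn hS hna h
  rcases hM M hMc with h1 | h1
  · exact h.not_iGap h1
  · have h2 := M.card_mul_index
    rw [h1, hn] at h2
    have h3 := h.index_dvd
    rw [h5, show M.index = 230400 by omega] at h3
    revert h3
    norm_num

end Cfsg.Agent.H462.Fc
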